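import Groth.Agent.Lib.Flatness.InjMod
import Groth.Agent.Lib.FibreFlat.OpenNoetherian
import Groth.Agent.Lib.FlatModel.Descent
import Mathlib

/-!
# Openness of injectivity on fibre local rings, over a noetherian base
-/

set_option autoImplicit false
set_option maxHeartbeats 1000000
universe u

open TensorProduct

namespace GrothLib.FibInjOpen1

variable (R : Type u) {S N M : Type u} [CommRing R] [CommRing S] [Algebra R S]
  [AddCommGroup N] [Module S N] [Module R N] [IsScalarTower R S N]
  [AddCommGroup M] [Module S M] [Module R M] [IsScalarTower R S M]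

/-- Injectivity on the fibre local ring at `q`, elementwise. -/
def InjAt (u : N →ₗ[S] M) (q : PrimeSpectrum S) : Prop :=
  ∀ x : N, (∃ s : S, s ∉ q.asIdeal ∧ s • u x ∈ (q.asIdeal.under R).map (algebraMap R S) • (⊤ : Submodule S M)) →
    ∃ s : S, s ∉ q.asIdeal ∧ s • x ∈ (q.asIdeal.under R).map (algebraMap R S) • (⊤ : Submodule S N)

omit [Algebra R S] [Module R N] [IsScalarTower R S N] in
theorem mk_mem_smul_top_iff (P : Ideal S) (q : Ideal S) [q.IsPrime] (x : N) (s : q.primeCompl) :
    LocalizedModule.mk x s ∈ (P • ⊤ : Submodule S (LocalizedModule q.primeCompl N)) ↔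
      ∃ t : S, t ∉ q ∧ t • x ∈ P • (⊤ : Submodule S N) := by
  constructor
  · intro h
    have key : ∀ z ∈ (P • ⊤ : Submodule S (LocalizedModule q.primeCompl N)),
        ∃ y ∈ P • (⊤ : Submodule S N), ∃ t : q.primeCompl, z = LocalizedModule.mk y t := by
      intro z hz
      refine Submodule.smul_induction_on hz (fun r hr n _ => ?_) (fun z w hz hw => ?_)
      · induction n using LocalizedModule.induction_on with
        | h y t => exact ⟨r • y, Submodule.smul_mem_smul hr trivial, t, (LocalizedModule.smul'_mk _ _ _)⟩
      · obtain ⟨y, hy, t, rfl⟩ := hz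
        obtain ⟨y', hy', t', rfl⟩ := hw
        exact ⟨_, add_mem (Submodule.smul_mem _ _ hy) (Submodule.smul_mem _ _ hy'), t * t', LocalizedModule.mk_add_mk⟩
    obtain ⟨y, hy, t, hyt⟩ := key _ h
    obtain ⟨w, hw⟩ := LocalizedModule.mk_eq.1 hyt
    refine ⟨(w * t : q.primeCompl), (w * t : q.primeCompl).2, ?_⟩
    have : ((w : S) * (t : S)) • x = ((w : S) * (s : S)) • y := by
      rw [mul_smul, mul_smul]; exact hw
    rw [Submonoid.coe_mul, this]
    exact Submodule.smul_mem _ _ hy
  · rintro ⟨t, ht, htx⟩
    have h1 : LocalizedModule.mk x s = LocalizedModule.mk (t • x) (⟨t, ht⟩ * s : q.primeCompl) :=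
      (LocalizedModule.mk_cancel_common_left ⟨t, ht⟩ s x).symm
    rw [h1]
    generalize (⟨t, ht⟩ * s : q.primeCompl) = s'
    refine Submodule.smul_induction_on htx (fun r hr n _ => ?_) (fun a b ha hb => ?_)
    · rw [← LocalizedModule.smul'_mk]
      exact Submodule.smul_mem_smul hr trivial
    · have h2 : LocalizedModule.mk (a + b) s' = LocalizedModule.mk a s' + LocalizedModule.mk b s' := by
        rw [LocalizedModule.mk_add_mk, ← smul_add]
        exact (LocalizedModule.mk_cancel_common_left s' s' (a + b)).symm
      rw [h2]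
      exact add_mem ha hb

variable [IsNoetherianRing R] [Algebra.FiniteType R S] [Module.Finite S N] [Module.Finite S M] [Module.Flat R M]

/-- Injective on the fibre local ring iff injective with flat cokernel at `q`. -/
theorem injAt_iff (u : N →ₗ[S] M) (q : PrimeSpectrum S) :
    InjAt R u q ↔ q ∉ Module.support S (LinearMap.ker u) ∧
      Module.Flat R (LocalizedModule q.asIdeal.primeCompl (M ⧸ LinearMap.range u)) := by
  haveI : IsNoetherianRing S := Algebra.FiniteType.isNoetherianRing R S
  set p := q.asIdeal.under R with hp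
  haveI : q.asIdeal.LiesOver p := ⟨rfl⟩
  let Rp := Localization.AtPrime p
  let Sq := Localization.AtPrime q.asIdeal
  letI : Algebra Rp Sq := Localization.AtPrime.algebraOfLiesOver p q.asIdeal
  haveI : Localization.AtPrime.IsLiesOverAlgebra p q.asIdeal := ⟨rfl⟩
  haveI : IsScalarTower R Rp Sq := inferInstance
  haveI : IsLocalHom (algebraMap Rp Sq) := by
    show IsLocalHom (Localization.localRingHom p q.asIdeal (algebraMap R S) _)
    infer_instance
  let Nq := LocalizedModule q.asIdeal.primeCompl N
  let Mq := LocalizedModule q.asIdeal.primeCompl M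
  let uq : Nq →ₗ[Sq] Mq := LocalizedModule.map q.asIdeal.primeCompl u
  letI : Module Rp Nq := Module.compHom Nq (algebraMap Rp Sq)
  haveI : IsScalarTower Rp Sq Nq := IsScalarTower.of_algebraMap_smul fun _ _ => rfl
  letI : Module Rp Mq := Module.compHom Mq (algebraMap Rp Sq)
  haveI : IsScalarTower Rp Sq Mq := IsScalarTower.of_algebraMap_smul fun _ _ => rfl
  haveI : IsScalarTower R Rp Nq := IsScalarTower.of_algebraMap_smul fun r x => by
    show algebraMap Rp Sq (algebraMap R Rp r) • x = r • x
    rw [← IsScalarTower.algebraMap_apply, algebraMap_smul]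
  haveI : IsScalarTower R Rp Mq := IsScalarTower.of_algebraMap_smul fun r x => by
    show algebraMap Rp Sq (algebraMap R Rp r) • x = r • x
    rw [← IsScalarTower.algebraMap_apply, algebraMap_smul]
  haveI : Module.Finite Sq Nq := inferInstance
  have hMR : Module.Flat R Mq := GrothLib.FlatModel.flat_localizedModule q.asIdeal.primeCompl
  haveI : Module.Flat Rp Mq := (Module.flat_iff_of_isLocalization Rp p.primeCompl Mq).2 hMR
  let v : Nq →ₗ[Rp] Mq := uq.restrictScalars Rp
  -- the maximal ideal of `R_p` and `p S`
  have hm : ∀ {X : Type u} [AddCommGroup X] [Module S X] [Module Sq X] [IsScalarTower S Sq X] [Module Rp X]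
      [IsScalarTower Rp Sq X] (z : X),
      z ∈ IsLocalRing.maximalIdeal Rp • (⊤ : Submodule Rp X) ↔ z ∈ (p.map (algebraMap R S)) • (⊤ : Submodule S X) := by
    intro X _ _ _ _ _ _ z
    have h1 : (IsLocalRing.maximalIdeal Rp).map (algebraMap Rp Sq) = (p.map (algebraMap R S)).map (algebraMap S Sq) := by
      rw [← Localization.AtPrime.map_eq_maximalIdeal, Ideal.map_map, Ideal.map_map,
        ← IsScalarTower.algebraMap_eq R Rp Sq, ← IsScalarTower.algebraMap_eq R S Sq]
    have e1 := Ideal.smul_restrictScalars (S := Sq) (IsLocalRing.maximalIdeal Rp) (⊤ : Submodule Sq X)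
    have e2 := Ideal.smul_restrictScalars (S := Sq) (p.map (algebraMap R S)) (⊤ : Submodule Sq X)
    rw [Submodule.restrictScalars_top] at e1 e2
    rw [h1] at e1
    rw [← e1, ← e2]
    rfl
  have htens : InjAt R u q ↔ Function.Injective (v.lTensor (IsLocalRing.ResidueField Rp)) := by
    rw [injective_iff_map_eq_zero]
    constructor
    · intro h t ht
      obtain ⟨m, rfl⟩ : ∃ m : Nq, (1 : IsLocalRing.ResidueField Rp) ⊗ₜ[Rp] m = t :=
        TensorProduct.mk_surjective Rp Nq (IsLocalRing.ResidueField Rp) IsLocalRing.residue_surjective t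
      rw [LinearMap.lTensor_tmul] at ht
      have h1 := (GrothLib.Flatness.one_tmul_eq_zero_iff _ _).mp ht
      refine (GrothLib.Flatness.one_tmul_eq_zero_iff _ _).mpr ?_
      induction m using LocalizedModule.induction_on with
      | h x s =>
        rw [show v (LocalizedModule.mk x s) = LocalizedModule.mk (u x) s from
          LocalizedModule.map_mk _ _ _ _, hm, mk_mem_smul_top_iff] at h1
        rw [hm, mk_mem_smul_top_iff]
        exact h x h1
    · intro h x hx
      have h0 := h ((1 : IsLocalRing.ResidueField Rp) ⊗ₜ[Rp] (LocalizedModule.mk x 1 : Nq)) (by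
        rw [LinearMap.lTensor_tmul]
        refine (GrothLib.Flatness.one_tmul_eq_zero_iff _ _).mpr ?_
        rw [show v (LocalizedModule.mk x 1) = LocalizedModule.mk (u x) 1 from
          LocalizedModule.map_mk _ _ _ _, hm, mk_mem_smul_top_iff]
        exact hx)
      have h1 := (GrothLib.Flatness.one_tmul_eq_zero_iff _ _).mp h0
      rwa [hm, mk_mem_smul_top_iff] at h1
  have hker : q ∉ Module.support S (LinearMap.ker u) ↔ Function.Injective v := by
    rw [Module.notMem_support_iff']
    constructor
    · intro h
      rw [injective_iff_map_eq_zero]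
      intro z hz
      induction z using LocalizedModule.induction_on with
      | h x s =>
        rw [show v (LocalizedModule.mk x s) = LocalizedModule.mk (u x) s from LocalizedModule.map_mk _ _ _ _,
          ← LocalizedModule.zero_mk s, LocalizedModule.mk_eq] at hz
        obtain ⟨t, ht⟩ := hz
        obtain ⟨r, hr, hrx⟩ := h ⟨((t : S) * (s : S)) • x, by
          rw [LinearMap.mem_ker, map_smul, mul_smul]
          simpa [Submonoid.smul_def] using ht⟩
        rw [← LocalizedModule.zero_mk s, LocalizedModule.mk_eq]
        refine ⟨⟨r, hr⟩ * t, ?_⟩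
        have := congrArg Subtype.val hrx
        simp only [Submodule.coe_smul, ZeroMemClass.coe_zero] at this
        simpa [Submonoid.smul_def, mul_smul] using this
    · intro h z
      have h1 : (LocalizedModule.mk (z : N) 1 : Nq) = 0 := h (by
        rw [map_zero, show v (LocalizedModule.mk (z : N) 1) = LocalizedModule.mk (u z) 1 from
          LocalizedModule.map_mk _ _ _ _, LinearMap.mem_ker.1 z.2, LocalizedModule.zero_mk])
      rw [← LocalizedModule.zero_mk (1 : q.asIdeal.primeCompl), LocalizedModule.mk_eq] at h1
      obtain ⟨t, ht⟩ := h1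
      exact ⟨t, t.2, Subtype.ext (by simpa [Submonoid.smul_def] using ht)⟩
  have hcok : Nonempty ((Mq ⧸ LinearMap.range v) ≃ₗ[R]
      LocalizedModule q.asIdeal.primeCompl (M ⧸ LinearMap.range u)) := by
    let π : Mq →ₗ[Sq] LocalizedModule q.asIdeal.primeCompl (M ⧸ LinearMap.range u) :=
      LocalizedModule.map q.asIdeal.primeCompl (LinearMap.range u).mkQ
    have hs : Function.Surjective π := LocalizedModule.map_surjective _ _ (Submodule.mkQ_surjective _)
    have hex : Function.Exact uq π := LocalizedModule.map_exact _ _ _ (LinearMap.exact_map_mkQ_range u)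
    have hk : LinearMap.ker (π.restrictScalars R) = (LinearMap.range v).restrictScalars R := by
      ext z
      exact hex z
    exact ⟨(Submodule.Quotient.restrictScalarsEquiv R (LinearMap.range v)).symm.trans
      ((Submodule.quotEquivOfEq _ _ hk.symm).trans ((π.restrictScalars R).quotKerEquivOfSurjective hs))⟩
  obtain ⟨e⟩ := hcok
  rw [htens, hker]
  constructor
  · intro h
    obtain ⟨hinj, hflat, -⟩ := GrothLib.Flatness.flat_coker_of_forall_mem v fun J x hx =>
      GrothLib.Flatness.mem_smul_top_of_map_mem (S := Sq) v h J x hx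
    haveI := hflat
    haveI : Module.Flat R Rp := IsLocalization.flat Rp p.primeCompl
    haveI : Module.Flat R (Mq ⧸ LinearMap.range v) := Module.Flat.trans R Rp _
    exact ⟨hinj, Module.Flat.of_linearEquiv e.symm⟩
  · rintro ⟨hinj, hflat⟩
    haveI := hflat
    haveI : Module.Flat R (Mq ⧸ LinearMap.range v) := Module.Flat.of_linearEquiv e
    haveI : Module.Flat Rp (Mq ⧸ LinearMap.range v) :=
      (Module.flat_iff_of_isLocalization Rp p.primeCompl _).2 inferInstance
    exact LinearMap.lTensor_injective_of_exact_of_flat (LinearMap.range v).mkQ (Submodule.mkQ_surjective _) v hinj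
      (LinearMap.exact_map_mkQ_range v) _

/-- The locus of injectivity on fibre local rings is open. -/
theorem isOpen_injAt (u : N →ₗ[S] M) : IsOpen {q : PrimeSpectrum S | InjAt R u q} := by
  haveI : IsNoetherianRing S := Algebra.FiniteType.isNoetherianRing R S
  have h : {q : PrimeSpectrum S | InjAt R u q} = (Module.support S (LinearMap.ker u))ᶜ ∩
      {q : PrimeSpectrum S | Module.Flat R (LocalizedModule q.asIdeal.primeCompl (M ⧸ LinearMap.range u))} :=
    Set.ext fun q => injAt_iff R u q
  rw [h]
  refine IsOpen.inter ?_ GrothLib.FibreFlat.isOpen_flat_locus_noetherian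
  rw [Module.support_eq_zeroLocus]
  exact (PrimeSpectrum.isClosed_zeroLocus _).isOpen_compl

end GrothLib.FibInjOpen1
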