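import Groth.Agent.Lib.FibInjOpen1.Basic
import Groth.Prelude.Def_EGA4b
import Mathlib

/-!
# Exactness of a matrix complex on fibre local rings
-/

set_option autoImplicit false
universe u

namespace GrothLib.FibInjOpen1

variable {R S : Type u} [CommRing R] [CommRing S] [Algebra R S]

theorem algebraMap_fibLocRing_eq_zero_iff (q : Ideal S) [q.IsPrime] (c : S) :
    algebraMap S (EGA4.FibLocRing R S q) c = 0 ↔ ∃ s : S, s ∉ q ∧ s * c ∈ (q.under R).map (algebraMap R S) := by
  show Ideal.Quotient.mk _ (algebraMap S (Localization.AtPrime q) c) = 0 ↔ _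
  rw [Ideal.Quotient.eq_zero_iff_mem, show (q.under R).map (algebraMap R (Localization.AtPrime q)) =
    ((q.under R).map (algebraMap R S)).map (algebraMap S (Localization.AtPrime q)) by
      rw [Ideal.map_map, ← IsScalarTower.algebraMap_eq], IsLocalization.algebraMap_mem_map_algebraMap_iff q.primeCompl]
  rfl

theorem exists_vector (q : Ideal S) [q.IsPrime] {n : ℕ} (l : Fin n → EGA4.FibLocRing R S q) :
    ∃ (t : S) (v : Fin n → S), IsUnit (algebraMap S (EGA4.FibLocRing R S q) t) ∧ t ∉ q ∧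
      ∀ j, algebraMap S (EGA4.FibLocRing R S q) t * l j = algebraMap S (EGA4.FibLocRing R S q) (v j) := by
  classical
  choose a ha using fun j => Ideal.Quotient.mk_surjective (l j)
  obtain ⟨t, ht⟩ := IsLocalization.exist_integer_multiples_of_finite q.primeCompl a
  choose v hv using ht
  refine ⟨t, v, (IsLocalization.map_units (Localization.AtPrime q) t).map (Ideal.Quotient.mk _), t.2, fun j => ?_⟩
  rw [← ha j]
  show Ideal.Quotient.mk _ (algebraMap S (Localization.AtPrime q) t) * _ = Ideal.Quotient.mk _ (algebraMap S _ (v j))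
  rw [← map_mul, hv j, Algebra.smul_def]

theorem mem_smul_top_pi_iff {n : ℕ} (P : Ideal S) (v : Fin n → S) :
    v ∈ P • (⊤ : Submodule S (Fin n → S)) ↔ ∀ j, v j ∈ P := by
  classical
  constructor
  · intro h j
    refine Submodule.smul_induction_on h (fun r hr x _ => ?_) (fun x y hx hy => add_mem hx hy)
    exact P.mul_mem_right _ hr
  · intro h
    rw [pi_eq_sum_univ' v]
    exact sum_mem fun j _ => Submodule.smul_mem_smul (h j) trivial

theorem mem_smul_top_quotient_iff {n : ℕ} (P : Ideal S) (K : Submodule S (Fin n → S)) (v : Fin n → S) :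
    K.mkQ v ∈ P • (⊤ : Submodule S ((Fin n → S) ⧸ K)) ↔ ∃ w ∈ K, ∀ j, (v - w) j ∈ P := by
  rw [← Submodule.range_mkQ K, ← Submodule.map_top, ← Submodule.map_smul'']
  constructor
  · rintro ⟨x, hx, hxv⟩
    refine ⟨v - x, ?_, fun j => ?_⟩
    · rw [← Submodule.Quotient.eq]; exact hxv.symm
    · rw [sub_sub_cancel]; exact (mem_smul_top_pi_iff P x).1 hx j
  · rintro ⟨w, hw, hv⟩
    refine ⟨v - w, (mem_smul_top_pi_iff P _).2 hv, ?_⟩
    rw [map_sub, Submodule.mkQ_apply, Submodule.mkQ_apply, (Submodule.Quotient.mk_eq_zero K).2 hw, sub_zero]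

variable [IsNoetherianRing R] [Algebra.FiniteType R S] {m n k : ℕ}

theorem fibreExact_iff (A : Matrix (Fin m) (Fin n) S) (B : Matrix (Fin n) (Fin k) S) (hAB : A * B = 0)
    (q : PrimeSpectrum S) :
    InjAt R ((LinearMap.range B.mulVecLin).liftQ A.mulVecLin
        (LinearMap.range_le_ker_iff.2 (by rw [← Matrix.mulVecLin_mul, hAB, Matrix.mulVecLin_zero]))) q ↔
      LinearMap.ker (A.map (algebraMap S (EGA4.FibLocRing R S q.asIdeal))).mulVecLin =
        LinearMap.range (B.map (algebraMap S (EGA4.FibLocRing R S q.asIdeal))).mulVecLin := by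
  classical
  set f := algebraMap S (EGA4.FibLocRing R S q.asIdeal) with hf
  have hle : LinearMap.range (B.map f).mulVecLin ≤ LinearMap.ker (A.map f).mulVecLin := by
    rw [LinearMap.range_le_ker_iff, ← Matrix.mulVecLin_mul, ← Matrix.map_mul, hAB, Matrix.map_zero _ (map_zero f),
      Matrix.mulVecLin_zero]
  have hmv : ∀ {a b : ℕ} (C : Matrix (Fin a) (Fin b) S) (v : Fin b → S),
      (C.map f).mulVec (f ∘ v) = f ∘ (C.mulVec v) := fun C v => by
    funext i; exact (RingHom.map_mulVec f C v i).symm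
  set P := (q.asIdeal.under R).map (algebraMap R S) with hP
  constructor
  · intro h
    refine le_antisymm (fun l hl => ?_) hle
    rw [LinearMap.mem_ker, Matrix.mulVecLin_apply] at hl
    obtain ⟨t, v, htu, htq, hv⟩ := exists_vector q.asIdeal l
    have hfv : f ∘ v = f t • l := funext fun j => (hv j).symm
    have h0 : ∀ i, f (A.mulVec v i) = 0 := fun i => by
      rw [← Function.comp_apply (f := f), ← hmv, hfv, Matrix.mulVec_smul, hl, smul_zero, Pi.zero_apply]
    choose s hs hsP using fun i => (algebraMap_fibLocRing_eq_zero_iff q.asIdeal _).1 (h0 i)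
    obtain ⟨s', hs', hs'P⟩ := h (Submodule.Quotient.mk v) ⟨∏ i, s i, fun hm => by
      obtain ⟨i, -, hi⟩ := q.2.prod_mem_iff.1 hm
      exact hs i hi, by
      rw [mem_smul_top_pi_iff]
      intro i
      show (∏ i, s i) * A.mulVec v i ∈ P
      rw [← Finset.prod_erase_mul Finset.univ s (Finset.mem_univ i), mul_assoc]
      exact P.mul_mem_left _ (hsP i)⟩
    rw [← Submodule.mkQ_apply, ← map_smul, mem_smul_top_quotient_iff] at hs'P
    obtain ⟨_, ⟨w, rfl⟩, hw⟩ := hs'P
    have hu : IsUnit (f s' * f t) := by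
      refine IsUnit.mul ?_ htu
      exact (IsLocalization.map_units (Localization.AtPrime q.asIdeal) (⟨s', hs'⟩ : q.asIdeal.primeCompl)).map
        (Ideal.Quotient.mk _)
    refine ⟨(hu.unit⁻¹ : (EGA4.FibLocRing R S q.asIdeal)ˣ).val • (f ∘ w), ?_⟩
    rw [map_smul, Matrix.mulVecLin_apply, hmv]
    have hBw : f ∘ B.mulVec w = (f s' * f t) • l := funext fun j => by
      have hPz : ∀ c ∈ P, f c = 0 := fun c hc =>
        (algebraMap_fibLocRing_eq_zero_iff q.asIdeal c).2 ⟨1, q.2.one_notMem, by rwa [one_mul]⟩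
      have h1 := hPz _ (hw j)
      rw [Pi.sub_apply, map_sub, sub_eq_zero, Pi.smul_apply, smul_eq_mul, map_mul, ← hv j, ← mul_assoc] at h1
      exact h1.symm
    rw [hBw, smul_smul, IsUnit.val_inv_mul, one_smul]
  · intro h x hx
    obtain ⟨v, rfl⟩ := Submodule.Quotient.mk_surjective _ x
    obtain ⟨s, hs, hsv⟩ := hx
    rw [mem_smul_top_pi_iff] at hsv
    have h0 : f ∘ v ∈ LinearMap.ker (A.map f).mulVecLin := by
      rw [LinearMap.mem_ker, Matrix.mulVecLin_apply, hmv]
      funext i
      exact (algebraMap_fibLocRing_eq_zero_iff q.asIdeal _).2 ⟨s, hs, hsv i⟩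
    rw [h] at h0
    obtain ⟨l, hl⟩ := h0
    obtain ⟨t, w, -, htq, hw⟩ := exists_vector q.asIdeal l
    have h1 : ∀ j, f (t * v j - B.mulVec w j) = 0 := fun j => by
      rw [map_sub, map_mul, sub_eq_zero, ← Function.comp_apply (f := f) (g := v), ← hl, Matrix.mulVecLin_apply,
        ← Function.comp_apply (f := f) (g := B.mulVec w), ← hmv,
        show f ∘ w = f t • l from funext fun j => (hw j).symm, Matrix.mulVec_smul, Pi.smul_apply, smul_eq_mul]
    choose s' hs' hs'P using fun j => (algebraMap_fibLocRing_eq_zero_iff q.asIdeal _).1 (h1 j)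
    refine ⟨(∏ j, s' j) * t, q.2.mul_notMem (fun hm => by
      obtain ⟨i, -, hi⟩ := q.2.prod_mem_iff.1 hm
      exact hs' i hi) htq, ?_⟩
    rw [← Submodule.mkQ_apply, ← map_smul, mem_smul_top_quotient_iff]
    refine ⟨(∏ j, s' j) • B.mulVec w, ⟨(∏ j, s' j) • w, by rw [map_smul]; rfl⟩, fun j => ?_⟩
    have : (((∏ j, s' j) * t) • v - (∏ j, s' j) • B.mulVec w) j = (∏ j, s' j) * (t * v j - B.mulVec w j) := by
      simp only [Pi.sub_apply, Pi.smul_apply, smul_eq_mul]; ring
    rw [this, ← Finset.prod_erase_mul Finset.univ s' (Finset.mem_univ j), mul_assoc]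
    exact P.mul_mem_left _ (hs'P j)

theorem isOpen_fibreExact [Module.Flat R S] (A : Matrix (Fin m) (Fin n) S) (B : Matrix (Fin n) (Fin k) S) (hAB : A * B = 0) :
    IsOpen {q : PrimeSpectrum S | LinearMap.ker (A.map (algebraMap S (EGA4.FibLocRing R S q.asIdeal))).mulVecLin =
      LinearMap.range (B.map (algebraMap S (EGA4.FibLocRing R S q.asIdeal))).mulVecLin} := by
  simp_rw [← fibreExact_iff A B hAB]
  haveI : IsNoetherianRing S := Algebra.FiniteType.isNoetherianRing R S
  haveI : Module.Flat R (Fin m → S) := Module.Flat.trans R S _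
  exact isOpen_injAt R _

end GrothLib.FibInjOpen1
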